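import Groth.Agent.Lib.NormFlat.Locus
import Groth.Agent.Lib.FlatFP.Sheaf
import Groth.Agent.Lib.QCoh.FT
import Groth.Agent.Lib.BlowUp.StalkIdeal
import Groth.Prelude.Def_EGA4b

/-!
# Ranks of the graded pieces are locally constant along a normally flat locus
-/

set_option autoImplicit false
set_option linter.style.haveILetI false

universe u

open CategoryTheory AlgebraicGeometry TopologicalSpace IsLocalRing

namespace GrothLib.NormFlat

variable {X : Scheme.{u}} [IsLocallyNoetherian X] (𝓘 : X.IdealSheafData) (F : X.Modules)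

/-- The rank of the `k`th graded piece at a point of the closed subscheme. -/
noncomputable def ddAt (y : ↥𝓘.subscheme) (k : ℕ) : ℕ :=
  dd (A := X.presheaf.stalk (𝓘.subschemeι y)) (F.presheaf.stalk (𝓘.subschemeι y))
    (RingHom.ker (𝓘.subschemeι.stalkMap y).hom) k

variable {𝓘 F}

omit [IsLocallyNoetherian X] in
theorem finite_stalk (hF : Coh.IsCoh F) (x : X) : Module.Finite (X.presheaf.stalk x) (F.presheaf.stalk x) := by
  obtain ⟨W, hW, hx, -⟩ := exists_isAffineOpen_mem_and_subset (X := X) (U := ⊤) (x := x) trivial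
  haveI := hF.1
  haveI := QCoh.moduleFinite_of_isFiniteType F hF.2 hW
  letI := X.presheaf.algebra_section_stalk ⟨x, hx⟩
  letI : Module Γ(X, W) (F.presheaf.stalk x) := Module.compHom _ (X.presheaf.germ W x hx).hom
  haveI : IsScalarTower Γ(X, W) (X.presheaf.stalk x) (F.presheaf.stalk x) :=
    IsScalarTower.of_algebraMap_smul fun _ _ => rfl
  haveI := FlatFP.isLocalization_stalk_primeAt hW hx
  obtain ⟨g, hg, -⟩ := FlatFP.isLocalizedModule_germ F hW hx
  exact Module.Finite.of_isLocalizedModule (WeakAss.primeAt x hx).primeCompl g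

omit [IsLocallyNoetherian X] in
theorem ker_stalkMap_le_maximalIdeal (y : ↥𝓘.subscheme) :
    RingHom.ker (𝓘.subschemeι.stalkMap y).hom ≤ maximalIdeal (X.presheaf.stalk (𝓘.subschemeι y)) :=
  le_maximalIdeal (RingHom.ker_ne_top _)

omit [IsLocallyNoetherian X] in
theorem ideal_le_primeAt (W : X.affineOpens) (y : ↥𝓘.subscheme) (hy : 𝓘.subschemeι y ∈ W.1) :
    𝓘.ideal W ≤ WeakAss.primeAt (𝓘.subschemeι y) hy := by
  rw [WeakAss.primeAt, ← Ideal.map_le_iff_le_comap, ← BlowUp.ker_stalkMap_subschemeι 𝓘 y W hy]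
  exact ker_stalkMap_le_maximalIdeal y

theorem exists_isBasisAt_ddAt (hF : Coh.IsCoh F) (y : ↥𝓘.subscheme)
    (hnf : EGA4.IsNormallyFlat (RingHom.ker (𝓘.subschemeι.stalkMap y).hom) ↑(F.presheaf.stalk (𝓘.subschemeι y)))
    (W : X.affineOpens) (hy : 𝓘.subschemeι y ∈ W.1) (k : ℕ) :
    ∃ b : Fin (ddAt 𝓘 F y k) → Γ(F, W.1),
      IsBasisAt (𝓘.ideal W) (WeakAss.primeAt (𝓘.subschemeι y) hy).primeCompl k b := by
  haveI := hF.1
  haveI := finite_stalk hF (𝓘.subschemeι y)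
  letI := X.presheaf.algebra_section_stalk ⟨𝓘.subschemeι y, hy⟩
  letI : Module Γ(X, W.1) (F.presheaf.stalk (𝓘.subschemeι y)) :=
    Module.compHom _ (X.presheaf.germ W.1 (𝓘.subschemeι y) hy).hom
  haveI : IsScalarTower Γ(X, W.1) (X.presheaf.stalk (𝓘.subschemeι y)) (F.presheaf.stalk (𝓘.subschemeι y)) :=
    IsScalarTower.of_algebraMap_smul fun _ _ => rfl
  haveI := FlatFP.isLocalization_stalk_primeAt W.2 hy
  obtain ⟨g, hg, -⟩ := FlatFP.isLocalizedModule_germ F W.2 hy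
  have hker : RingHom.ker (𝓘.subschemeι.stalkMap y).hom =
      (𝓘.ideal W).map (algebraMap Γ(X, W.1) (X.presheaf.stalk (𝓘.subschemeι y))) :=
    BlowUp.ker_stalkMap_subschemeι 𝓘 y W hy
  have hK := ker_stalkMap_le_maximalIdeal y
  rw [hker] at hK hnf
  obtain ⟨ρ, b, hb⟩ := exists_isBasisAt (WeakAss.primeAt (𝓘.subschemeι y) hy).primeCompl g (𝓘.ideal W) hK hnf k
  have h := dd_eq_of_isBasisAt (WeakAss.primeAt (𝓘.subschemeι y) hy).primeCompl g (𝓘.ideal W) hK hb
  have : ddAt 𝓘 F y k = ρ := by rw [ddAt, hker]; exact h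
  rw [this]
  exact ⟨b, hb⟩

theorem rank_unique {A M : Type u} [CommRing A] [IsNoetherianRing A] [AddCommGroup M] [Module A M] [Module.Finite A M]
    (I : Ideal A) (P : Ideal A) [P.IsPrime] (hI : I ≤ P) {k ρ ρ' : ℕ} {b : Fin ρ → M} {b' : Fin ρ' → M}
    (h : IsBasisAt I P.primeCompl k b) (h' : IsBasisAt I P.primeCompl k b') : ρ = ρ' := by
  have hK : I.map (algebraMap A (Localization.AtPrime P)) ≤ maximalIdeal _ := by
    rw [← Localization.AtPrime.map_eq_maximalIdeal]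
    exact Ideal.map_mono hI
  haveI : Module.Finite (Localization.AtPrime P) (LocalizedModule P.primeCompl M) :=
    Module.Finite.of_isLocalizedModule P.primeCompl (LocalizedModule.mkLinearMap P.primeCompl M)
  exact (dd_eq_of_isBasisAt P.primeCompl (LocalizedModule.mkLinearMap P.primeCompl M) I hK h).symm.trans
    (dd_eq_of_isBasisAt P.primeCompl (LocalizedModule.mkLinearMap P.primeCompl M) I hK h')

theorem isLocallyConstant_ddAt (hF : Coh.IsCoh F)
    (hnf : ∀ y : ↥𝓘.subscheme, EGA4.IsNormallyFlat (RingHom.ker (𝓘.subschemeι.stalkMap y).hom)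
      ↑(F.presheaf.stalk (𝓘.subschemeι y))) :
    IsLocallyConstant (ddAt 𝓘 F) := by
  classical
  refine IsLocallyConstant.iff_exists_open _ |>.2 fun y => ?_
  obtain ⟨W, hW, hy, -⟩ := exists_isAffineOpen_mem_and_subset (X := X) (U := ⊤) (x := 𝓘.subschemeι y) trivial
  haveI := hF.1
  haveI := QCoh.moduleFinite_of_isFiniteType F hF.2 hW
  haveI : IsNoetherianRing Γ(X, W) := IsLocallyNoetherian.component_noetherian ⟨W, hW⟩
  let I := 𝓘.ideal ⟨W, hW⟩
  let q := WeakAss.primeAt (𝓘.subschemeι y) hy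
  have hfin : I.minimalPrimes.Finite := Ideal.finite_minimalPrimes_of_isNoetherianRing _ I
  let T := hfin.toFinset.filter fun P => ¬ P ≤ q
  have hT : ∀ P ∈ T, ∃ t ∈ P, t ∉ q := fun P hP => Set.not_subset.1 (Finset.mem_filter.1 hP).2
  choose t htP htq using hT
  let s := ∏ P ∈ T.attach, t P.1 P.2
  have hsq : s ∉ q := fun h => by
    obtain ⟨P, -, hP⟩ := (Ideal.IsPrime.prod_mem_iff (p := q)).1 h
    exact htq P.1 P.2 hP
  refine ⟨𝓘.subschemeι ⁻¹' (X.basicOpen s : Set X), (X.basicOpen s).2.preimage 𝓘.subschemeι.continuous,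
    WeakAss.notMem_primeAt_iff.1 hsq, fun z hz => ?_⟩
  have hzW : 𝓘.subschemeι z ∈ W := X.basicOpen_le s hz
  have hsp : s ∉ WeakAss.primeAt (𝓘.subschemeι z) hzW := WeakAss.notMem_primeAt_iff.2 hz
  obtain ⟨P, hP, hPp⟩ := Ideal.exists_minimalPrimes_le (ideal_le_primeAt ⟨W, hW⟩ z hzW)
  haveI := hP.1.1
  have hPq : P ≤ q := by
    by_contra hno
    have hmem : P ∈ T := Finset.mem_filter.2 ⟨hfin.mem_toFinset.2 hP, hno⟩
    refine hsp (hPp ?_)
    exact Ideal.prod_mem (f := fun Q : ↥T => t Q.1 Q.2) _ (Finset.mem_attach T ⟨P, hmem⟩) (htP P hmem)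
  funext k
  obtain ⟨b, hb⟩ := exists_isBasisAt_ddAt hF z (hnf z) ⟨W, hW⟩ hzW k
  obtain ⟨b', hb'⟩ := exists_isBasisAt_ddAt hF y (hnf y) ⟨W, hW⟩ hy k
  have h1 : (WeakAss.primeAt (𝓘.subschemeι z) hzW).primeCompl ≤ P.primeCompl := fun x hx hxP => hx (hPp hxP)
  have h2 : q.primeCompl ≤ P.primeCompl := fun x hx hxP => hx (hPq hxP)
  exact rank_unique I P hP.1.2 (hb.mono h1) (hb'.mono h2)

/-- A single numerator for a connected regular centre. -/
theorem exists_numerator [ConnectedSpace ↥𝓘.subscheme]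
    (hreg : ∀ y : ↥𝓘.subscheme, IsRegularLocalRing ↑(𝓘.subscheme.presheaf.stalk y))
    (hF : Coh.IsCoh F)
    (hnf : ∀ y : ↥𝓘.subscheme, EGA4.IsNormallyFlat (RingHom.ker (𝓘.subschemeι.stalkMap y).hom)
      ↑(F.presheaf.stalk (𝓘.subschemeι y))) :
    ∃ R : ℕ → ℕ, ∀ (y : ↥𝓘.subscheme) (n : ℕ), ringKrullDim ↑(𝓘.subscheme.presheaf.stalk y) = n →
      ∀ h : ℕ, hf (A := X.presheaf.stalk (𝓘.subschemeι y)) (F.presheaf.stalk (𝓘.subschemeι y)) h = binSum n R h := by
  obtain ⟨y₀⟩ := (inferInstance : Nonempty ↥𝓘.subscheme)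
  refine ⟨ddAt 𝓘 F y₀, fun y n hn h => ?_⟩
  haveI := finite_stalk hF (𝓘.subschemeι y)
  have hsurj : Function.Surjective (𝓘.subschemeι.stalkMap y).hom := 𝓘.subschemeι.stalkMap_surjective y
  let e := RingHom.quotientKerEquivOfSurjective hsurj
  haveI := hreg y
  haveI : IsRegularLocalRing (X.presheaf.stalk (𝓘.subschemeι y) ⧸ RingHom.ker (𝓘.subschemeι.stalkMap y).hom) :=
    IsRegularLocalRing.of_ringEquiv e.symm
  have h1 := (hilbert_criterion (F.presheaf.stalk (𝓘.subschemeι y)) n _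
    ((ringKrullDim_eq_of_ringEquiv e).trans hn)).2.1 (hnf y)
  rw [iterPre_eq_binSum] at h1
  rw [congrFun h1 h]
  have hc : ddAt 𝓘 F y = ddAt 𝓘 F y₀ :=
    (isLocallyConstant_ddAt hF hnf).apply_eq_of_preconnectedSpace y y₀
  rw [← hc]
  rfl

end GrothLib.NormFlat
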