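import Groth.Agent.Lib.NormFlat.Hilbert
import Mathlib

/-!
# Bases of the graded pieces up to a submonoid
-/

set_option autoImplicit false
set_option linter.style.haveILetI false

universe u

open Pointwise IsLocalRing

namespace GrothLib.NormFlat

variable {A : Type u} [CommRing A] {M : Type u} [AddCommGroup M] [Module A M]

/-- `b` is a basis of `Gr M I k` after inverting `S`. -/
structure IsBasisAt (I : Ideal A) (S : Submonoid A) (k : ℕ) {ρ : ℕ} (b : Fin ρ → M) : Prop where
  mem : ∀ i, b i ∈ Fil M I k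
  span : ∀ x ∈ Fil M I k, ∃ s ∈ S, ∃ c : Fin ρ → A, s • x - ∑ i, c i • b i ∈ Fil M I (k + 1)
  indep : ∀ c : Fin ρ → A, ∑ i, c i • b i ∈ Fil M I (k + 1) → ∀ i, ∃ s ∈ S, s * c i ∈ I

theorem IsBasisAt.mono {I : Ideal A} {S T : Submonoid A} (hST : S ≤ T) {k ρ : ℕ} {b : Fin ρ → M}
    (h : IsBasisAt I S k b) : IsBasisAt I T k b :=
  ⟨h.mem, fun x hx => (h.span x hx).imp fun _ hs => ⟨hST hs.1, hs.2⟩,
    fun c hc i => (h.indep c hc i).imp fun _ hs => ⟨hST hs.1, hs.2⟩⟩

variable {O : Type u} [CommRing O] [Algebra A O] (S : Submonoid A) [IsLocalization S O]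
variable {N : Type u} [AddCommGroup N] [Module A N] [Module O N] [IsScalarTower A O N]
variable (g : M →ₗ[A] N) [IsLocalizedModule S g] (I : Ideal A)

theorem fil_map (k : ℕ) : Fil N (I.map (algebraMap A O)) k = (Fil M I k).localized' O S g := by
  rw [Fil, Fil, Submodule.localized'_smul, Submodule.localized'_top, Submodule.localized'_eq_span, ← Ideal.map_pow]
  rfl

theorem mem_fil_map {k : ℕ} {z : M} :
    g z ∈ Fil N (I.map (algebraMap A O)) k ↔ ∃ u ∈ S, u • z ∈ Fil M I k := by
  rw [fil_map S g, Submodule.mem_localized']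
  constructor
  · rintro ⟨m, hm, s, h⟩
    rw [IsLocalizedModule.mk'_eq_iff, ← LinearMap.map_smul_of_tower] at h
    obtain ⟨c, hc⟩ := IsLocalizedModule.exists_of_eq (S := S) h
    refine ⟨c * s, S.mul_mem c.2 s.2, ?_⟩
    have : ((c : A) * (s : A)) • z = (c : A) • m := by rw [mul_smul]; exact hc.symm
    rw [this]
    exact Submodule.smul_mem _ _ hm
  · rintro ⟨u, hu, hz⟩
    refine ⟨u • z, hz, ⟨u, hu⟩, ?_⟩
    rw [IsLocalizedModule.mk'_eq_iff, ← LinearMap.map_smul_of_tower]
    rfl

include S g in
theorem dd_eq_of_isBasisAt [IsLocalRing O] [IsNoetherianRing O] [Module.Finite O N]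
    (hK : I.map (algebraMap A O) ≤ maximalIdeal O) {k ρ : ℕ} {b : Fin ρ → M} (h : IsBasisAt I S k b) :
    dd N (I.map (algebraMap A O)) k = ρ := by
  classical
  set K := I.map (algebraMap A O)
  let b' : Fin ρ → ↥(Fil N K k) := fun i => ⟨g (b i), (mem_fil_map S g I).2 ⟨1, S.one_mem, by simpa using h.mem i⟩⟩
  let φ : (Fin ρ → O) →ₗ[O] Gr N K k := (Submodule.mkQ _).comp (Fintype.linearCombination O b')
  have hφ : Function.Surjective φ := by
    intro y
    obtain ⟨⟨x, hx⟩, rfl⟩ := Submodule.mkQ_surjective _ y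
    have hx' := hx
    rw [fil_map S g, Submodule.mem_localized'] at hx'
    obtain ⟨z, hz, s₀, rfl⟩ := hx'
    obtain ⟨s, hs, c, hc⟩ := h.span z hz
    obtain ⟨w, hw⟩ := (IsLocalization.map_units O (⟨s, hs⟩ * s₀ : S)).exists_left_inv
    refine ⟨fun i => w * algebraMap A O (c i), ?_⟩
    rw [LinearMap.comp_apply, Submodule.mkQ_apply, Submodule.mkQ_apply, ← sub_eq_zero, ← Submodule.Quotient.mk_sub, gr_mk_eq_zero]
    have e : ((Fintype.linearCombination O b' (fun i => w * algebraMap A O (c i)) - ⟨IsLocalizedModule.mk' g z s₀, hx⟩ : ↥(Fil N K k)) : N) =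
        w • g (∑ i, c i • b i - s • z) := by
      have h1 : IsLocalizedModule.mk' g z s₀ = w • g (s • z) := by
        have h2 : (s₀ : A) • IsLocalizedModule.mk' g z s₀ = g z := IsLocalizedModule.mk'_cancel' g z s₀
        rw [LinearMap.map_smul_of_tower, ← h2, ← mul_smul s, ← IsScalarTower.algebraMap_smul O (s * (s₀ : A)),
          ← mul_smul]
        have : w * algebraMap A O (s * (s₀ : A)) = 1 := hw
        rw [this, one_smul]
      simp only [AddSubgroupClass.coe_sub, Fintype.linearCombination_apply, Submodule.coe_sum, SetLike.val_smul, b']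
      rw [map_sub, smul_sub, h1, map_sum, Finset.smul_sum]
      refine congrArg (· - _) (Finset.sum_congr rfl fun i _ => ?_)
      rw [map_smul g, ← IsScalarTower.algebraMap_smul O (c i) (g (b i)), mul_smul]
    rw [e]
    refine Submodule.smul_mem _ _ ((mem_fil_map S g I).2 ⟨1, S.one_mem, ?_⟩)
    rw [one_smul, ← neg_sub]
    exact neg_mem hc
  have hker : LinearMap.ker φ ≤ maximalIdeal O • ⊤ := by
    intro c hc
    obtain ⟨t, ht⟩ := IsLocalization.exist_integer_multiples_of_finite S c
    choose a ha using ht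
    have hsum : g (∑ i, a i • b i) ∈ Fil N K (k + 1) := by
      have h0 : (Fintype.linearCombination O b' c : N) ∈ Fil N K (k + 1) := (gr_mk_eq_zero K k _).1 hc
      simp only [Fintype.linearCombination_apply, Submodule.coe_sum, SetLike.val_smul, b'] at h0
      rw [map_sum]
      have e : ∑ i, g (a i • b i) = algebraMap A O t • ∑ i, c i • g (b i) := by
        rw [Finset.smul_sum]
        refine Finset.sum_congr rfl fun i _ => ?_
        rw [map_smul, ← IsScalarTower.algebraMap_smul O (a i), ha i, Algebra.smul_def, mul_smul]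
      rw [e]
      exact Submodule.smul_mem _ _ h0
    obtain ⟨u, hu, husum⟩ := (mem_fil_map S g I).1 hsum
    rw [Finset.smul_sum] at husum
    simp_rw [← mul_smul] at husum
    have hci : ∀ i, c i ∈ maximalIdeal O := fun i => by
      obtain ⟨s, hs, hsi⟩ := h.indep _ husum i
      refine hK ((Ideal.unit_mul_mem_iff_mem _ (IsLocalization.map_units O (⟨s, hs⟩ * (⟨u, hu⟩ * t) : S))).1 ?_)
      have e : algebraMap A O (s * (u * a i)) = algebraMap A O (s * (u * (t : A))) * c i := by
        rw [map_mul, map_mul, map_mul, map_mul, ha i, Algebra.smul_def]; ring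
      show algebraMap A O (s * (u * (t : A))) * c i ∈ _
      rw [← e]
      exact Ideal.mem_map_of_mem _ hsi
    have hc' : c = ∑ i, c i • (Pi.single i 1 : Fin ρ → O) := by
      funext j; simp [Finset.sum_apply, Pi.single_apply]
    rw [hc']
    exact sum_mem fun i _ => Submodule.smul_mem_smul (hci i) Submodule.mem_top
  rw [dd, ← fr_eq_of_ker_le hφ hker, fr]
  let ψ : Fib (A := O) (Fin ρ → O) →ₗ[O ⧸ maximalIdeal O] (Fin ρ → O ⧸ maximalIdeal O) :=
    (Submodule.liftQ _ (LinearMap.pi fun i => (Submodule.mkQ (maximalIdeal O)).comp (LinearMap.proj i))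
      (Submodule.smul_le.2 fun r hr x _ => by
        rw [LinearMap.mem_ker]; funext i
        exact (Submodule.Quotient.mk_eq_zero _).2 (Ideal.mul_mem_right _ _ hr))).extendScalarsOfSurjective
      Ideal.Quotient.mk_surjective
  have hψ : Function.Bijective ψ := by
    refine ⟨(injective_iff_map_eq_zero _).2 fun x hx => ?_, fun y => ?_⟩
    · obtain ⟨x, rfl⟩ := Submodule.mkQ_surjective _ x
      rw [Submodule.mkQ_apply, Submodule.Quotient.mk_eq_zero]
      have hx' : x = ∑ i, x i • (Pi.single i 1 : Fin ρ → O) := by funext j; simp [Finset.sum_apply, Pi.single_apply]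
      rw [hx']
      exact sum_mem fun i _ => Submodule.smul_mem_smul ((Submodule.Quotient.mk_eq_zero _).1 (congrFun hx i)) Submodule.mem_top
    · choose x hx using fun i => Submodule.mkQ_surjective _ (y i)
      exact ⟨Submodule.Quotient.mk x, funext hx⟩
  rw [(LinearEquiv.ofBijective ψ hψ).finrank_eq, Module.finrank_fin_fun]

include S g in
theorem exists_isBasisAt [IsLocalRing O] [IsNoetherianRing O] [Module.Finite O N]
    (hK : I.map (algebraMap A O) ≤ maximalIdeal O) (hflat : NFlat N (I.map (algebraMap A O))) (k : ℕ) :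
    ∃ (ρ : ℕ) (b : Fin ρ → M), IsBasisAt I S k b := by
  classical
  set K := I.map (algebraMap A O)
  have hne : K ≠ ⊤ := ne_top_of_le_ne_top (maximalIdeal.isMaximal O).ne_top hK
  haveI : Nontrivial (O ⧸ K) := Ideal.Quotient.nontrivial_iff.2 hne
  haveI : IsLocalRing (O ⧸ K) := IsLocalRing.of_surjective' _ Ideal.Quotient.mk_surjective
  haveI := hflat k
  haveI : Module.Finite (O ⧸ K) (Gr N K k) := Module.Finite.of_restrictScalars_finite O _ _
  haveI : Module.Free (O ⧸ K) (Gr N K k) := Module.free_of_flat_of_isLocalRing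
  let e := Module.finBasis (O ⧸ K) (Gr N K k)
  have hlift : ∀ i, ∃ (y : M) (s : S), y ∈ Fil M I k ∧ ∃ hy : g y ∈ Fil N K k,
      (Submodule.Quotient.mk ⟨g y, hy⟩ : Gr N K k) = algebraMap A O s • e i := by
    intro i
    obtain ⟨⟨x, hx⟩, hxe⟩ := Submodule.mkQ_surjective _ (e i)
    have hx' := hx
    rw [fil_map S g, Submodule.mem_localized'] at hx'
    obtain ⟨y, hy, s, rfl⟩ := hx'
    refine ⟨y, s, hy, (mem_fil_map S g I).2 ⟨1, S.one_mem, by simpa using hy⟩, ?_⟩
    rw [← hxe, Submodule.mkQ_apply, ← Submodule.Quotient.mk_smul]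
    refine congrArg Submodule.Quotient.mk (Subtype.ext ?_)
    show g y = algebraMap A O s • IsLocalizedModule.mk' g y s
    rw [IsScalarTower.algebraMap_smul]
    exact (IsLocalizedModule.mk'_cancel' g y s).symm
  choose y s hy hgy hye using hlift
  refine ⟨_, y, hy, fun x hx => ?_, fun c hc i => ?_⟩
  · let xc : Gr N K k := Submodule.Quotient.mk ⟨g x, (mem_fil_map S g I).2 ⟨1, S.one_mem, by simpa using hx⟩⟩
    choose r hr using fun i => Ideal.Quotient.mk_surjective (e.repr xc i)
    let r' : Fin _ → O := fun i => r i * ↑(IsLocalization.map_units O (s i)).unit⁻¹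
    obtain ⟨t, ht⟩ := IsLocalization.exist_integer_multiples_of_finite S r'
    choose a ha using ht
    have hmem : g ((t : A) • x - ∑ i, a i • y i) ∈ Fil N K (k + 1) := by
      have h0 : algebraMap A O t • xc - ∑ i, algebraMap A O (a i) • (Submodule.Quotient.mk ⟨g (y i), hgy i⟩ : Gr N K k) = 0 := by
        rw [sub_eq_zero]
        conv_lhs => rw [← e.sum_repr xc, Finset.smul_sum]
        refine Finset.sum_congr rfl fun i _ => ?_
        rw [hye i, ha i, ← hr i, Algebra.smul_def (t : A)]
        show algebraMap A O t • (algebraMap O (O ⧸ K) (r i) • e i) = _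
        rw [IsScalarTower.algebraMap_smul (O ⧸ K) (r i) (e i)]
        simp only [← mul_smul]
        congr 1
        simp only [r']
        rw [mul_assoc, mul_assoc, IsUnit.val_inv_mul, mul_one]
      simp only [xc] at h0
      simp only [← Submodule.Quotient.mk_smul] at h0
      rw [← Submodule.mkQ_apply, ← Finset.sum_congr rfl (fun i _ => Submodule.mkQ_apply _ (algebraMap A O (a i) • (⟨g (y i), hgy i⟩ : ↥(Fil N K k)))),
        ← map_sum, ← map_sub, Submodule.mkQ_apply, gr_mk_eq_zero] at h0
      simpa [map_sum, Submodule.coe_sum, IsScalarTower.algebraMap_smul] using h0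
    obtain ⟨u, hu, hux⟩ := (mem_fil_map S g I).1 hmem
    refine ⟨u * t, S.mul_mem hu t.2, fun i => u * a i, ?_⟩
    rw [smul_sub, Finset.smul_sum] at hux
    simpa [mul_smul] using hux
  · have h0 : ∑ j, (algebraMap O (O ⧸ K) (algebraMap A O (c j) * algebraMap A O (s j))) • e j = 0 := by
      calc _ = ∑ j, algebraMap A O (c j) • (Submodule.Quotient.mk ⟨g (y j), hgy j⟩ : Gr N K k) := by
            refine Finset.sum_congr rfl fun j _ => ?_
            rw [hye j, IsScalarTower.algebraMap_smul, mul_smul]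
        _ = Submodule.mkQ _ (∑ j, algebraMap A O (c j) • (⟨g (y j), hgy j⟩ : ↥(Fil N K k))) := by
            rw [map_sum]; rfl
        _ = 0 := by
            rw [Submodule.mkQ_apply, gr_mk_eq_zero]
            have := (mem_fil_map (O := O) S g I).2 ⟨1, S.one_mem, by simpa using hc⟩
            simpa [map_sum, Submodule.coe_sum, IsScalarTower.algebraMap_smul] using this
    have h1 := Fintype.linearIndependent_iff.1 e.linearIndependent _ h0 i
    have h1' : algebraMap A O (c i) * algebraMap A O (s i) ∈ K := Ideal.Quotient.eq_zero_iff_mem.1 h1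
    rw [Ideal.mul_unit_mem_iff_mem _ (IsLocalization.map_units O (s i)),
      IsLocalization.algebraMap_mem_map_algebraMap_iff S] at h1'
    exact h1'

end GrothLib.NormFlat
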